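import Cfsg.Agent.H740.K4.M
import Cfsg.Agent.H493.RatB.WitS

/-!
# S4891, the Monster, `p = 3, 5, 7, 11, 13` (helper740)

* `permC_axes` : the permutation character of the Monster on the `97239461142009186000` axes is the sum of nine
  irreducible rational valued characters (of known degrees);
* `witR_m` : the rows of S4891.
-/

set_option autoImplicit false
set_option maxRecDepth 100000

namespace Cfsg.Agent.H740.RatM

open Cfsg Cfsg.Agent.MonsterX.InstData Cfsg.Agent.Characters.Core
open Cfsg.Agent.H816.MEigL Cfsg.Agent.H816.MSch Cfsg.Agent.H816.MDeg Cfsg.Agent.H816.IMEig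
open Cfsg.Agent.H145.BR Cfsg.Agent.H493.RatB
open scoped BigOperators

universe u

/-- The value of a spherical function, summed over the displacements. -/
noncomputable def sph (ω : Fin 9 → ℂ) (g : ↥M.G) : ℂ := ∑ᶠ x : XT, ω (c x (g • x))

theorem exists_value {P : Fin 9 → Fin 9 → ℤ} {θ D : ℤ} {ω : Fin 9 → ℤ} {R : Fin 9 → Fin 9 → ℤ} {r : Fin 9 → ℤ} {f : ℕ}
    (h : Dat t k P 2 θ D ω R r 97239461142009186000 f) :
    ∃ χ : IrrCharacter ↥M.G, (χ : ↥M.G → ℂ) 1 = f ∧ RatV (χ : ↥M.G → ℂ) ∧
      ∀ g, (χ : ↥M.G → ℂ) g = ((f : ℂ) / 97239461142009186000) * sph (fun u => (ω u : ℂ) / (D : ℂ)) g := by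
  classical
  have := finite_G
  have := Fintype.ofFinite XT
  have hE := h.toEig
  have hd := h.toDeg
  rw [← c_b1] at hE
  have hN : (97239461142009186000 : ℂ) ≠ 0 := by norm_num
  have hS : (∑ u, ((∑ w, t u w : ℕ) : ℂ) * ((ω u : ℂ) / (D : ℂ)) ^ 2) ≠ 0 := by
    intro h0
    rw [h0, mul_zero] at hd
    exact hN hd.symm
  have hinv : (∑ u, ((∑ w, t u w : ℕ) : ℂ) * ((ω u : ℂ) / (D : ℂ)) ^ 2)⁻¹ = (f : ℂ) / 97239461142009186000 := by
    rw [eq_div_iff hN, inv_mul_eq_iff_eq_mul₀ hS, mul_comm, hd]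
    norm_num
  have hval : ∀ g, (isCol.sub (fun u => (ω u : ℂ) / (D : ℂ))).toRepresentation.character g =
      ((f : ℂ) / 97239461142009186000) * sph (fun u => (ω u : ℂ) / (D : ℂ)) g := by
    intro g
    rw [H740.K4.Scheme.character_eq isCol tt_eq hE hS g, ← hinv]
    unfold sph
    rw [finsum_eq_sum_of_fintype]
    rfl
  refine ⟨⟨_, isIrrCharacter_of_rep _ (isCol.irr tt_eq hE)⟩, ?_, ?_, hval⟩
  · show (isCol.sub (fun u => (ω u : ℂ) / (D : ℂ))).toRepresentation.character 1 = f
    rw [Representation.char_one]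
    have h1 := isCol.finrank_mul tt_eq hE hS
    rw [← Nat.card_eq_fintype_card, card_XT] at h1
    have h2 : ((97239461142009186000 : ℕ) : ℂ) = (f : ℂ) * (∑ u, ((∑ w, t u w : ℕ) : ℂ) * ((ω u : ℂ) / (D : ℂ)) ^ 2) :=
      hd.symm
    rw [h2] at h1
    exact mul_right_cancel₀ hS h1
  · intro g
    refine ⟨((f : ℚ) / 97239461142009186000) * ∑ x : XT, (ω (c x (g • x)) : ℚ) / (D : ℚ), ?_⟩
    refine (hval g).trans ?_
    unfold sph
    rw [finsum_eq_sum_of_fintype]
    push_cast
    rfl


theorem isPretransitive : MulAction.IsPretransitive ↥M.G XT := ⟨c_trans⟩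

theorem permC_eq_sph (g : ↥M.G) : permC ↥M.G XT g = sph (fun u => if u = 0 then 1 else 0) g := by
  classical
  have := Fintype.ofFinite XT
  unfold permC sph
  rw [finsum_eq_sum_of_fintype, Finset.sum_ite, Finset.sum_const_zero, add_zero, Finset.sum_const, nsmul_eq_mul, mul_one,
    Nat.card_eq_fintype_card, ← Fintype.card_subtype]
  congr 1
  refine Fintype.card_congr (Equiv.subtypeEquivRight fun x => ?_)
  rw [c_diag, MulAction.mem_fixedBy]
  exact eq_comm

theorem sph_lin (a : Fin 9 → ℂ) (ω : Fin 9 → Fin 9 → ℂ) (g : ↥M.G) :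
    ∑ i, a i * sph (ω i) g = sph (fun u => ∑ i, a i * ω i u) g := by
  classical
  have := Fintype.ofFinite XT
  unfold sph
  simp only [finsum_eq_sum_of_fintype, Finset.mul_sum]
  rw [Finset.sum_comm]

/-- the degrees of the nontrivial constituents -/
def deg : Fin 8 → ℕ := ![196883, 18538750076, 36173193327999, 251098487132187500, 49609712911192813665,
  47377503606648784400, 1109944460516150, 842609326]

/-- **The permutation character of the Monster on the axes.** -/
theorem permC_axes : ∃ χ : Fin 8 → IrrCharacter ↥M.G, (∀ i, (χ i : ↥M.G → ℂ) 1 = deg i) ∧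
    (∀ i, RatV (χ i : ↥M.G → ℂ)) ∧ ∀ g, permC ↥M.G XT g = 1 + ∑ i, (χ i : ↥M.G → ℂ) g := by
  obtain ⟨χ0, a0, b0, c0⟩ := exists_value dat_196883
  obtain ⟨χ1, a1, b1, c1⟩ := exists_value dat_18538750076
  obtain ⟨χ2, a2, b2, c2⟩ := exists_value dat_36173193327999
  obtain ⟨χ3, a3, b3, c3⟩ := exists_value dat_251098487132187500
  obtain ⟨χ4, a4, b4, c4⟩ := exists_value dat_49609712911192813665
  obtain ⟨χ5, a5, b5, c5⟩ := exists_value dat_47377503606648784400
  obtain ⟨χ6, a6, b6, c6⟩ := exists_value dat_1109944460516150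
  obtain ⟨χ7, a7, b7, c7⟩ := exists_value dat_842609326
  refine ⟨![χ0, χ1, χ2, χ3, χ4, χ5, χ6, χ7], ?_, ?_, ?_⟩
  · intro i
    fin_cases i <;> assumption
  · intro i
    fin_cases i <;> assumption
  · intro g
    have hone : (1 : ℂ) = ((1 : ℂ) / 97239461142009186000) * sph (fun _ => 1) g := by
      classical
      have := Fintype.ofFinite XT
      unfold sph
      rw [finsum_eq_sum_of_fintype, Finset.sum_const, Finset.card_univ, ← Nat.card_eq_fintype_card, card_XT]
      norm_num
    rw [permC_eq_sph]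
    have e1 : ∑ i, (![χ0, χ1, χ2, χ3, χ4, χ5, χ6, χ7] i : ↥M.G → ℂ) g = (χ0 : ↥M.G → ℂ) g + (χ1 : ↥M.G → ℂ) g +
        (χ2 : ↥M.G → ℂ) g + (χ3 : ↥M.G → ℂ) g + (χ4 : ↥M.G → ℂ) g + (χ5 : ↥M.G → ℂ) g + (χ6 : ↥M.G → ℂ) g +
        (χ7 : ↥M.G → ℂ) g := by
      rw [Fin.sum_univ_eight]
      rfl
    rw [e1, c0, c1, c2, c3, c4, c5, c6, c7]
    have e2 := sph_lin ![(1 : ℂ) / 97239461142009186000, ((196883 : ℕ) : ℂ) / 97239461142009186000,
      ((18538750076 : ℕ) : ℂ) / 97239461142009186000, ((36173193327999 : ℕ) : ℂ) / 97239461142009186000,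
      ((251098487132187500 : ℕ) : ℂ) / 97239461142009186000, ((49609712911192813665 : ℕ) : ℂ) / 97239461142009186000,
      ((47377503606648784400 : ℕ) : ℂ) / 97239461142009186000, ((1109944460516150 : ℕ) : ℂ) / 97239461142009186000,
      ((842609326 : ℕ) : ℂ) / 97239461142009186000]
      ![fun _ => 1,
        fun u => (vec [752, 80, -16, 23, -4, 8, -4, 2, -1] u : ℂ) / ((752 : ℤ) : ℂ),
        fun u => (vec [12353495040, 107655168, -8101888, 6628347, 1621548, 416768, -332768, -57710, 24123] u : ℂ) /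
          ((12353495040 : ℤ) : ℂ),
        fun u => (vec [5985268346880, 9253779456, -383143936, 163654614, -17859069, -1567104, -2001376, -54245,
          111846] u : ℂ) / ((5985268346880 : ℤ) : ℂ),
        fun u => (vec [2161346903040000, 214455627776, -6231859200, -97151379, 22971000, -896000, 4335136, 380000,
          -277459] u : ℂ) / ((2161346903040000 : ℤ) : ℂ),
        fun u => (vec [31699754577920, -94595072, -5181440, 223652, 38285, -7040, 7072, 1045, -572] u : ℂ) /
          ((31699754577920 : ℤ) : ℂ),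
        fun u => (vec [172907752243200, 447176704, 32030720, -1250418, -229710, 40960, -42432, -6175, 3406] u : ℂ) /
          ((172907752243200 : ℤ) : ℂ),
        fun u => (vec [3325149081600, 1620023296, 175697920, 8669643, 1387095, -278400, 202912, 38475, -19661] u : ℂ) /
          ((3325149081600 : ℤ) : ℂ),
        fun u => (vec [13427712, 231936, 50176, 22131, -2790, 2464, 3032, -163, -21] u : ℂ) / ((13427712 : ℤ) : ℂ)] g
    have e3 : ∀ u : Fin 9, (if u = 0 then (1 : ℂ) else 0) = ∑ i : Fin 9, (![(1 : ℂ) / 97239461142009186000, ((196883 : ℕ) : ℂ) / 97239461142009186000,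
      ((18538750076 : ℕ) : ℂ) / 97239461142009186000, ((36173193327999 : ℕ) : ℂ) / 97239461142009186000,
      ((251098487132187500 : ℕ) : ℂ) / 97239461142009186000, ((49609712911192813665 : ℕ) : ℂ) / 97239461142009186000,
      ((47377503606648784400 : ℕ) : ℂ) / 97239461142009186000, ((1109944460516150 : ℕ) : ℂ) / 97239461142009186000,
      ((842609326 : ℕ) : ℂ) / 97239461142009186000] : Fin 9 → ℂ) i * (![fun _ => 1,
        fun u => (vec [752, 80, -16, 23, -4, 8, -4, 2, -1] u : ℂ) / ((752 : ℤ) : ℂ),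
        fun u => (vec [12353495040, 107655168, -8101888, 6628347, 1621548, 416768, -332768, -57710, 24123] u : ℂ) /
          ((12353495040 : ℤ) : ℂ),
        fun u => (vec [5985268346880, 9253779456, -383143936, 163654614, -17859069, -1567104, -2001376, -54245,
          111846] u : ℂ) / ((5985268346880 : ℤ) : ℂ),
        fun u => (vec [2161346903040000, 214455627776, -6231859200, -97151379, 22971000, -896000, 4335136, 380000,
          -277459] u : ℂ) / ((2161346903040000 : ℤ) : ℂ),
        fun u => (vec [31699754577920, -94595072, -5181440, 223652, 38285, -7040, 7072, 1045, -572] u : ℂ) /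
          ((31699754577920 : ℤ) : ℂ),
        fun u => (vec [172907752243200, 447176704, 32030720, -1250418, -229710, 40960, -42432, -6175, 3406] u : ℂ) /
          ((172907752243200 : ℤ) : ℂ),
        fun u => (vec [3325149081600, 1620023296, 175697920, 8669643, 1387095, -278400, 202912, 38475, -19661] u : ℂ) /
          ((3325149081600 : ℤ) : ℂ),
        fun u => (vec [13427712, 231936, 50176, 22131, -2790, 2464, 3032, -163, -21] u : ℂ) / ((13427712 : ℤ) : ℂ)] :
        Fin 9 → Fin 9 → ℂ) i u := by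
      intro u
      fin_cases u <;> simp [Fin.sum_univ_succ, vec] <;> norm_num
    rw [show (fun u : Fin 9 => if u = 0 then (1 : ℂ) else 0) = _ from funext e3, ← e2]
    simp [Fin.sum_univ_succ]
    rw [one_div] at hone
    linear_combination -hone

/-- **The Monster**: `p` divides the number of axes. -/
theorem witR_model {p : ℕ} [hp : Fact p.Prime] (hd : p ∣ 97239461142009186000) : WitR p ↥M.G := by
  classical
  have := finite_G
  have := Fintype.ofFinite ↥M.G
  have := isPretransitive
  have : Nonempty XT := ⟨H816.MSch.b0⟩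
  obtain ⟨χ, -, h2, h3⟩ := permC_axes
  refine witR_of_sum (X := XT) (by rw [card_XT]; exact hd) Finset.univ (fun _ => 1) χ (fun g => ?_) fun i _ _ => h2 i
  rw [h3 g]
  simp

/-- **The rows of the Monster.** -/
theorem witR_m {p : ℕ} [hp : Fact p.Prime] (hd : p ∣ 97239461142009186000) {S : Type u} [Group S]
    (h : Spor.IsoM S) : WitR p S := by
  obtain ⟨e⟩ := Cfsg.Agent.H816.IMM.exists_equiv h
  have := finite_G
  have : Finite S := Finite.of_equiv _ e.symm.toEquiv
  exact WitR.congr e (witR_model hd)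

theorem witR_m_three {S : Type u} [Group S] (h : Spor.IsoM S) : WitR 3 S := witR_m (by norm_num) h

theorem witR_m_five {S : Type u} [Group S] (h : Spor.IsoM S) : WitR 5 S :=
  haveI : Fact (Nat.Prime 5) := ⟨by norm_num⟩
  witR_m (by norm_num) h

theorem witR_m_seven {S : Type u} [Group S] (h : Spor.IsoM S) : WitR 7 S :=
  haveI : Fact (Nat.Prime 7) := ⟨by norm_num⟩
  witR_m (by norm_num) h

theorem witR_m_eleven {S : Type u} [Group S] (h : Spor.IsoM S) : WitR 11 S :=
  haveI : Fact (Nat.Prime 11) := ⟨by norm_num⟩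
  witR_m (by norm_num) h

theorem witR_m_thirteen {S : Type u} [Group S] (h : Spor.IsoM S) : WitR 13 S :=
  haveI : Fact (Nat.Prime 13) := ⟨by norm_num⟩
  witR_m (by norm_num) h

end Cfsg.Agent.H740.RatM
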